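import Cfsg.Agent.Lib.SigL.Grp
import Cfsg.Agent.Auto.CfsgLib_SigL_dS_eq_def
import Cfsg.Agent.Lib.Coprime.Aut
import Cfsg.Agent.Lib.Signal.App3
import Cfsg.Agent.Lib.Signal.SFT

/-! Acciarri–Shumyatsky: centralisers of coprime automorphisms. -/

set_option autoImplicit false

open Subgroup
open scoped commutatorElement

namespace CfsgLib.SigL

open CfsgLib.LieM CfsgLib.Tech

variable {X : Type*} [Group X]

theorem map_dS {Y : Type*} [Group Y] (f : X →* Y) (K : Subgroup X) (n : ℕ) :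
    (dS K n).map f = dS (K.map f) n := by
  induction n with
  | zero => rfl
  | succ n ih => rw [dS, map_commutator, ih, dS]

theorem dS_top (n : ℕ) : dS (⊤ : Subgroup X) n = derivedSeries X n := by
  induction n with
  | zero => rfl
  | succ n ih => rw [dS, ih, derivedSeries_succ]

theorem dS_add (K : Subgroup X) (m n : ℕ) : dS K (m + n) = dS (dS K m) n := by
  induction n with
  | zero => rfl
  | succ n ih => rw [← add_assoc, dS, ih, dS]

theorem dS_le_lcs (K : Subgroup X) (n : ℕ) : dS K n ≤ K.lowerCentralSeries n := by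
  induction n with
  | zero => exact le_rfl
  | succ n ih => exact commutator_mono ih (ih.trans (lcs_le K n))

theorem le_normalizer_dS {A K : Subgroup X} (h : A ≤ normalizer (K : Set X)) (n : ℕ) :
    A ≤ normalizer (dS K n : Set X) := by
  induction n with
  | zero => exact h
  | succ n ih => exact Coprime.le_normalizer_commutator ih ih

theorem lcs_mono {K K' : Subgroup X} (h : K ≤ K') (n : ℕ) :
    K.lowerCentralSeries n ≤ K'.lowerCentralSeries n := by
  induction n with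
  | zero => exact h
  | succ n ih => exact commutator_mono ih h

theorem itc_succ_le {C N : Subgroup X} (h : C ≤ normalizer (N : Set X)) (c : ℕ) :
    itc C N (c + 1) ≤ N.lowerCentralSeries c := by
  induction c with
  | zero => exact le_normalizer_iff_commutator_le_right.1 h
  | succ t ih => exact commutator_mono ih le_rfl

theorem isSolvable_iff_dS (K : Subgroup X) : Group.IsSolvable K ↔ ∃ n, dS K n = ⊥ := by
  rw [Group.isSolvable_def]
  refine exists_congr fun n => ?_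
  rw [← dS_top, ← map_eq_bot_iff_of_injective _ K.subtype_injective, map_dS,
    ← MonoidHom.range_eq_map, range_subtype]

theorem isSubnormal_of_itc {G Y : Subgroup X} [G.Normal] (hY : Y ≤ G) {n : ℕ}
    (h : itc G Y n = ⊥) : Y.IsSubnormal := by
  have key : ∀ t, (Y ⊔ itc G Y t).IsSubnormal := fun t => by
    induction t with
    | zero => rw [itc, sup_eq_right.2 hY]; exact Normal.isSubnormal inferInstance
    | succ t ih =>
      have hle : Y ⊔ itc G Y (t + 1) ≤ Y ⊔ itc G Y t :=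
        sup_le le_sup_left (Core.commutator_le_of_le le_sup_right le_sup_left)
      refine IsSubnormal.step _ _ hle ih ((normal_subgroupOf_iff_le_normalizer hle).2
        (sup_le (le_sup_left.trans le_normalizer) ?_))
      rw [itc, commutator_comm]
      exact Core.le_normalizer_sup_commutator _ _
  simpa [h] using key n

variable [Finite X] {p : ℕ} {A G : Subgroup X}

/-- The standing hypotheses. -/
structure Act (p : ℕ) (A G : Subgroup X) : Prop where
  pp : p.Prime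
  comm : IsMulCommutative A
  exp : ∀ a ∈ A, a ^ p = 1
  ne : A ≠ ⊥
  cop : (Nat.card G).Coprime p
  nor : G.Normal

open scoped _root_.Classical in
/-- The hyperplanes of `A`. -/
noncomputable def hyps (p : ℕ) (A : Subgroup X) : Finset (Subgroup X) :=
  ((Set.finite_univ (α := Subgroup A)).toFinset.image (map A.subtype)).filter
    fun B => B.relIndex A = p

theorem mem_hyps {B : Subgroup X} : B ∈ hyps p A ↔ B ≤ A ∧ B.relIndex A = p := by
  simp only [hyps, Finset.mem_filter, Finset.mem_image, Set.Finite.mem_toFinset, Set.mem_univ,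
    true_and]
  refine and_congr_left fun _ => ⟨?_, fun h => ⟨_, map_subgroupOf_eq_of_le h⟩⟩
  rintro ⟨B, rfl⟩
  exact map_subtype_le B

theorem card_hyps_le : (hyps p A).card ≤ 2 ^ Nat.card A := by
  classical
  refine (Finset.card_filter_le _ _).trans (Finset.card_image_le.trans ?_)
  rw [← Set.ncard_eq_toFinset_card, Set.ncard_univ]
  have := Fintype.ofFinite A
  refine (Nat.card_le_card_of_injective (fun B : Subgroup A => (B : Set A))
    SetLike.coe_injective).trans (le_of_eq ?_)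
  rw [Nat.card_eq_fintype_card, Fintype.card_set, Nat.card_eq_fintype_card]

open scoped _root_.Classical in
/-- The special subgroups of level zero. -/
noncomputable def sp0 (p : ℕ) (A G : Subgroup X) : Finset (Subgroup X) :=
  (hyps p A).image fun B : Subgroup X => G ⊓ centralizer (B : Set X)

open scoped _root_.Classical in
/-- The special subgroups of the next level. -/
noncomputable def nx (p : ℕ) (A : Subgroup X) (S T : Finset (Subgroup X)) : Finset (Subgroup X) :=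
  (S ×ˢ T ×ˢ hyps p A).image fun x => ⁅x.1, x.2.1⁆ ⊓ centralizer (x.2.2 : Set X)

theorem mem_sp0 {Y : Subgroup X} : Y ∈ sp0 p A G ↔
    ∃ B ≤ A, B.relIndex A = p ∧ G ⊓ centralizer (B : Set X) = Y := by
  simp only [sp0, Finset.mem_image, mem_hyps, and_assoc]

theorem mem_nx {S T : Finset (Subgroup X)} {Y : Subgroup X} : Y ∈ nx p A S T ↔
    ∃ J ∈ S, ∃ J' ∈ T, ∃ B ≤ A, B.relIndex A = p ∧ ⁅J, J'⁆ ⊓ centralizer (B : Set X) = Y := by
  simp only [nx, Finset.mem_image, Finset.mem_product, mem_hyps, Prod.exists]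
  exact ⟨fun ⟨J, J', B, ⟨h1, h2, h3, h4⟩, h5⟩ => ⟨J, h1, J', h2, B, h3, h4, h5⟩,
    fun ⟨J, h1, J', h2, B, h3, h4, h5⟩ => ⟨J, J', B, ⟨h1, h2, h3, h4⟩, h5⟩⟩

theorem card_sp0_le : (sp0 p A G).card ≤ 2 ^ Nat.card A := by
  classical
  exact Finset.card_image_le.trans card_hyps_le

theorem card_nx_le (S T : Finset (Subgroup X)) :
    (nx p A S T).card ≤ S.card * (T.card * 2 ^ Nat.card A) := by
  classical
  refine Finset.card_image_le.trans ?_
  rw [Finset.card_product, Finset.card_product]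
  exact Nat.mul_le_mul_left _ (Nat.mul_le_mul_left _ card_hyps_le)

/-- Every member of `S` lies in a member of `T`. -/
def Ref (S T : Finset (Subgroup X)) : Prop := ∀ Y ∈ S, ∃ Z ∈ T, Y ≤ Z

theorem Ref.nx {S S' T T' : Finset (Subgroup X)} (h : Ref S S') (h' : Ref T T') :
    Ref (nx p A S T) (nx p A S' T') := fun Y hY => by
  obtain ⟨J, hJ, K, hK, B, h1, h2, rfl⟩ := mem_nx.1 hY
  obtain ⟨J', hJ', e⟩ := h J hJ
  obtain ⟨K', hK', e'⟩ := h' K hK
  exact ⟨_, mem_nx.2 ⟨J', hJ', K', hK', B, h1, h2, rfl⟩, inf_le_inf_right _ (commutator_mono e e')⟩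

/-- Families of invariant subgroups of `G`. -/
def Inv (A G : Subgroup X) (S : Finset (Subgroup X)) : Prop :=
  ∀ Y ∈ S, Y ≤ G ∧ A ≤ normalizer (Y : Set X)

namespace Act

variable (h : Act p A G)
include h

theorem nG : A ≤ normalizer (G : Set X) := haveI := h.nor; le_normalizer_of_normal

theorem nC {B : Subgroup X} (hB : B ≤ A) : A ≤ normalizer (centralizer (B : Set X) : Set X) :=
  Coprime.le_normalizer_centralizer ((le_centralizer_iff.1 (hB.trans
    (haveI := h.comm; le_centralizer A))).trans (centralizer_le_normalizer _))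

theorem le_of_hyp {K M : Subgroup X} (hK : K ≤ G) (hn : A ≤ normalizer (K : Set X))
    (hM : ∀ B ≤ A, B.relIndex A = p → K ⊓ centralizer (B : Set X) ≤ M) : K ≤ M :=
  haveI := h.comm
  Coprime.le_of_forall_hyperplane h.pp h.exp h.ne hn
    ((coprime_of_exp h.pp h.exp h.cop).coprime_dvd_right (card_dvd_of_le hK)) hM

theorem inv_sp0 : Inv A G (sp0 p A G) := fun Y hY => by
  obtain ⟨B, h1, -, rfl⟩ := mem_sp0.1 hY
  exact ⟨inf_le_left, Coprime.le_normalizer_inf h.nG (h.nC h1)⟩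

theorem inv_nx {S T : Finset (Subgroup X)} (hS : Inv A G S) (hT : Inv A G T) :
    Inv A G (nx p A S T) := fun Y hY => by
  obtain ⟨J, hJ, K, hK, B, h1, -, rfl⟩ := mem_nx.1 hY
  exact ⟨inf_le_left.trans (Core.commutator_le_of_le (hS J hJ).1 (hT K hK).1),
    Coprime.le_normalizer_inf (Coprime.le_normalizer_commutator (hS J hJ).2 (hT K hK).2) (h.nC h1)⟩

omit h in
theorem ref_sp0 {S T : Finset (Subgroup X)} (hS : Inv A G S) (hT : Inv A G T) :
    Ref (nx p A S T) (sp0 p A G) := fun Y hY => by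
  obtain ⟨J, hJ, K, hK, B, h1, h2, rfl⟩ := mem_nx.1 hY
  exact ⟨_, mem_sp0.2 ⟨B, h1, h2, rfl⟩,
    inf_le_inf_right _ (Core.commutator_le_of_le (hS J hJ).1 (hT K hK).1)⟩

theorem iSup_sp0 : ⨆ Y ∈ sp0 p A G, Y = G :=
  le_antisymm (iSup₂_le fun Y hY => (h.inv_sp0 Y hY).1) (h.le_of_hyp le_rfl h.nG fun B h1 h2 =>
    le_iSup₂ (f := fun Y (_ : Y ∈ sp0 p A G) => Y) _ (mem_sp0.2 ⟨B, h1, h2, rfl⟩))

theorem iSup_nx {S T : Finset (Subgroup X)} (hS : Inv A G S) (hT : Inv A G T)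
    (h1 : Ref (nx p A S T) S) (h2 : Ref S T) :
    ⨆ Y ∈ nx p A S T, Y = ⁅⨆ Y ∈ S, Y, ⨆ Y ∈ T, Y⁆ := by
  refine le_antisymm (iSup₂_le fun Y hY => ?_) ?_
  · obtain ⟨J, hJ, K, hK, B, -, -, rfl⟩ := mem_nx.1 hY
    exact inf_le_left.trans (commutator_mono (le_iSup₂ (f := fun Y (_ : Y ∈ S) => Y) J hJ)
      (le_iSup₂ (f := fun Y (_ : Y ∈ T) => Y) K hK))
  set M := ⨆ Y ∈ nx p A S T, Y with hM
  have hle : ∀ Y ∈ nx p A S T, Y ≤ M := le_iSup₂ (f := fun Y (_ : Y ∈ nx p A S T) => Y)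
  have h3 : ∀ J ∈ S, ∀ K ∈ T, ⁅J, K⁆ ≤ M := fun J hJ K hK =>
    h.le_of_hyp (Core.commutator_le_of_le (hS J hJ).1 (hT K hK).1)
      (Coprime.le_normalizer_commutator (hS J hJ).2 (hT K hK).2) fun B e1 e2 =>
        hle _ (mem_nx.2 ⟨J, hJ, K, hK, B, e1, e2, rfl⟩)
  have h4 : ∀ K ∈ T, K ≤ normalizer (M : Set X) := fun K hK =>
    Core.le_normalizer_of_commutator_le (Core.commutator_iSup_left_le
      (fun Y => iSup_le fun hY => (hle Y hY).trans le_normalizer) fun Y =>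
        Core.commutator_iSup_left_le (fun hY => (hle Y hY).trans le_normalizer) fun hY => by
          obtain ⟨J, hJ, e⟩ := h1 Y hY
          exact (commutator_mono e le_rfl).trans (h3 J hJ K hK))
  have h5 : ∀ J ∈ S, J ≤ normalizer (M : Set X) := fun J hJ => by
    obtain ⟨K, hK, e⟩ := h2 J hJ
    exact e.trans (h4 K hK)
  refine Core.commutator_iSup_left_le (fun J => iSup_le (h5 J)) fun J =>
    Core.commutator_iSup_left_le (h5 J) fun hJ => ?_
  rw [commutator_comm]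
  exact Core.commutator_iSup_left_le (fun K => iSup_le (h4 K)) fun K =>
    Core.commutator_iSup_left_le (h4 K) fun hK => (commutator_comm _ _).trans_le (h3 J hJ K hK)

theorem le_fitting (hs : Group.IsSolvable G) {Y : Subgroup X} (hY : Y ≤ G) {m : ℕ}
    (hm : ∀ B ≤ A, B.relIndex A = p → itc (G ⊓ centralizer (B : Set X)) Y m = ⊥) :
    Y ≤ Cfsg.fittingSubgroup X := by
  have := h.nor
  have hN : ∀ i, (dS G i).Normal := fun i => by
    induction i with
    | zero => exact h.nor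
    | succ i ih => exact commutator_normal _ _
  have h1 : ∀ i, itc (dS G i) Y m ≤ dS G (i + 1) := fun i => by
    have := hN i
    have := hN (i + 1)
    have h2 : ∀ K ≤ dS G i, ∀ t, itc K Y t ≤ dS G i := fun K hK t => by
      induction t with
      | zero => exact hK
      | succ t ih => exact (commutator_mono ih le_rfl).trans (commutator_le_left _ _)
    have key : ∀ t, itc (dS G i) Y t ≤ dS G (i + 1) ⊔ ⨆ B : {B // B ∈ hyps p A},
        itc (dS G i ⊓ centralizer (B.1 : Set X)) Y t := fun t => by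
      induction t with
      | zero =>
        exact h.le_of_hyp (K := dS G i) ((dS_le_lcs G i).trans (lcs_le G i)) le_normalizer_of_normal
          fun B e1 e2 => le_sup_of_le_right (le_iSup_of_le ⟨B, mem_hyps.2 ⟨e1, e2⟩⟩ le_rfl)
      | succ t ih =>
        have hn : dS G i ≤ normalizer ((dS G (i + 1) ⊔ ⨆ B : {B // B ∈ hyps p A},
            itc (dS G i ⊓ centralizer (B.1 : Set X)) Y (t + 1) : Subgroup X) : Set X) :=
          Core.le_normalizer_of_commutator_le_of_le le_sup_left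
            (sup_le (commutator_le_left _ _) (iSup_le fun B => h2 _ inf_le_left _))
        refine (commutator_mono ih le_rfl).trans (Core.commutator_sup_left_le
          ((commutator_le_left _ _).trans hn) ((iSup_le fun B => h2 _ inf_le_left _).trans hn)
          ((commutator_le_left _ _).trans le_sup_left) (Core.commutator_iSup_left_le
            (fun B => (h2 _ inf_le_left _).trans hn) fun B => le_sup_of_le_right ?_))
        exact le_iSup (fun B : {B // B ∈ hyps p A} =>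
          itc (dS G i ⊓ centralizer (B.1 : Set X)) Y (t + 1)) B
    refine (key m).trans (sup_le le_rfl (iSup_le fun B => le_trans (le_trans (itc_mono
      (inf_le_inf_right _ ((dS_le_lcs G i).trans (lcs_le G i))) le_rfl m) ?_) bot_le))
    exact (hm B.1 (mem_hyps.1 B.2).1 (mem_hyps.1 B.2).2).le
  have h2 : ∀ i, itc G Y (i * m) ≤ dS G i := fun i => by
    induction i with
    | zero => rw [zero_mul]; exact le_rfl
    | succ i ih => rw [Nat.succ_mul, itc_add]; exact (itc_mono ih le_rfl m).trans (h1 i)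
  obtain ⟨d, hd⟩ := (isSolvable_iff_dS G).1 hs
  have h3 : itc G Y (d * m) = ⊥ := le_bot_iff.1 ((h2 d).trans hd.le)
  refine Core.le_fittingSubgroup_of_isSubnormal (isSubnormal_of_itc hY h3)
    ((isNilpotent_iff_lowerCentralSeries Y).2 ⟨d * m, le_bot_iff.1 (le_trans ?_ h3.le)⟩)
  induction d * m with
  | zero => exact hY
  | succ t ih => exact commutator_mono ih le_rfl

end Act

/-- The bound for the class. -/
def bound (p c e S : ℕ) : ℕ :=
  (Finset.range (S + 1)).sup fun j => ((c + 1) ^ j) ^ kb (((c + 1) ^ j) ^ e) p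

theorem Act.main (h : Act p A G) (h3 : p ^ 3 ≤ Nat.card A) {D : Subgroup X → Subgroup X} {r c S : ℕ}
    (Dmono : ∀ K K', K ≤ K' → D K ≤ D K') (Dle : ∀ K, D K ≤ K)
    (Dn : ∀ K L : Subgroup X, L ≤ normalizer (K : Set X) → L ≤ normalizer (D K : Set X))
    (Dd : ∀ K, dS K r ≤ D K) {s : Finset (Subgroup X)} (hS : s.card ≤ S) (inv : Inv A G s)
    (gen : ⨆ Y ∈ s, Y = D G)
    (cl : ∀ Y ∈ s, ∀ Y' ∈ s, ∀ B ≤ A, B.relIndex A = p →
      ∃ Z ∈ s, ⁅Y, Y'⁆ ⊓ centralizer (B : Set X) ≤ Z)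
    (loc : ∀ Y ∈ s, ∃ B ≤ A, B.relIndex A * p < Nat.card A ∧ Y ≤ D (G ⊓ centralizer (B : Set X)))
    (hc : ∀ a ∈ A, a ≠ 1 → (D (G ⊓ centralizer {a})).lowerCentralSeries c = ⊥) :
    (D G).lowerCentralSeries (bound p c (r + c) S) = ⊥ := by
  have := Fact.mk h.pp
  have hd : ∀ a ∈ A, a ≠ 1 → dS (G ⊓ centralizer {a}) (r + c) = ⊥ := fun a ha a1 => by
    rw [dS_add]
    exact le_bot_iff.1 (((dS_mono (Dd _) c).trans (dS_le_lcs _ c)).trans (hc a ha a1).le)
  have hs : Group.IsSolvable G := Signal.s0515 (Signal.sftIn X) p A G h.comm h.exp h3 h.cop h.nG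
    fun a ha a1 => (isSolvable_iff_dS _).2 ⟨_, hd a ha a1⟩
  have nil : ∀ Y ∈ s, ∀ B ≤ A, B.relIndex A = p →
      itc (G ⊓ centralizer (B : Set X)) Y (c + 1) = ⊥ := fun Y hY B' h1 h2 => by
    obtain ⟨B, h4, h5, h6⟩ := loc Y hY
    obtain ⟨⟨a, ha⟩, a1⟩ := ne_bot_iff_exists_ne_one.1 (show B ⊓ B' ≠ ⊥ from fun e => by
      have := relIndex_inf_le (H := B) (K := B') (L := A)
      rw [e, relIndex_bot_left, h2] at this
      omega)
    have a1' : a ≠ 1 := fun e => a1 (Subtype.ext e)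
    have hC : ∀ B : Subgroup X, a ∈ B → G ⊓ centralizer (B : Set X) ≤ G ⊓ centralizer {a} :=
      fun B hB => inf_le_inf_left _ (centralizer_le (Set.singleton_subset_iff.2 hB))
    refine le_bot_iff.1 (((itc_mono (hC B' ha.2) (h6.trans (Dmono _ _ (hC B ha.1))) _).trans
      ?_).trans (hc a (h4 ha.1) a1').le)
    exact itc_succ_le (Dn _ _ le_normalizer) c
  have hY : ∀ Y ∈ s, Y ≤ D G := fun Y hY => gen ▸ le_iSup₂ (f := fun Y (_ : Y ∈ s) => Y) Y hY
  have F : Fam p A (D G) s (c + 1) := ⟨h.pp, h.comm, h.exp, h.ne,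
    h.cop.coprime_dvd_left (card_dvd_of_le (Dle G)), Dn _ _ h.nG, hY, gen.ge,
    fun Y hY => (inv Y hY).2, cl, fun Y hY B h1 h2 => le_bot_iff.1
      ((itc_mono (inf_le_inf_right _ (Dle G)) le_rfl _).trans (nil Y hY B h1 h2).le)⟩
  have hF : D G ≤ Cfsg.fittingSubgroup X :=
    gen ▸ iSup₂_le fun Y hY => h.le_fitting hs (inv Y hY).1 (nil Y hY)
  have := Core.isNilpotent_fittingSubgroup X
  have : Group.IsNilpotent (D G) :=
    Group.nilpotent_of_mulEquiv (subgroupOfEquivOfLe hF)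
  obtain ⟨⟨a, ha⟩, a1⟩ := ne_bot_iff_exists_ne_one.1 h.ne
  have h4 := F.lcs_eq_bot ha (e := r + c) (le_bot_iff.1 ((dS_mono (inf_le_inf_right _ (Dle G)) _).trans
    (hd a ha fun e => a1 (Subtype.ext e)).le))
  refine le_bot_iff.1 (((D G).lowerCentralSeries_antitone ?_).trans h4.le)
  exact Finset.le_sup (f := fun j => ((c + 1) ^ j) ^ kb (((c + 1) ^ j) ^ (r + c)) p)
    (Finset.mem_range.2 (Nat.lt_succ_of_le hS))

/-- Bounds for the number of special subgroups. -/
def cb (N : ℕ) : ℕ → ℕ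
  | 0 => N
  | i + 1 => cb N i * (cb N i * N)

theorem le_cb {N : ℕ} (hN : 1 ≤ N) (i : ℕ) : N ≤ cb N i := by
  induction i with
  | zero => exact le_rfl
  | succ i ih =>
    exact ih.trans (Nat.le_mul_of_pos_right _ (Nat.mul_pos (by omega) hN))

theorem Act.lcs (h : Act p A G) {k c : ℕ} (hk : 3 ≤ k) (hA : Nat.card A = p ^ k)
    (hc : ∀ a ∈ A, a ≠ 1 →
      ((G ⊓ centralizer {a}).lowerCentralSeries (k - 3)).lowerCentralSeries c = ⊥) :
    (G.lowerCentralSeries (k - 3)).lowerCentralSeries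
      (bound p c (k - 3 + c) (cb (2 ^ p ^ k) (k - 3))) = ⊥ := by
  have key : ∀ i, ∃ s : Finset (Subgroup X), s.card ≤ cb (2 ^ p ^ k) i ∧ Inv A G s ∧
      ⨆ Y ∈ s, Y = G.lowerCentralSeries i ∧ Ref s (sp0 p A G) ∧ Ref (nx p A s (sp0 p A G)) s ∧
      ∀ Y ∈ s, ∃ B ≤ A, B.relIndex A ≤ p ^ (i + 1) ∧
        Y ≤ (G ⊓ centralizer (B : Set X)).lowerCentralSeries i := fun i => by
    induction i with
    | zero =>
      refine ⟨_, hA ▸ card_sp0_le, h.inv_sp0, h.iSup_sp0, fun Y hY => ⟨Y, hY, le_rfl⟩,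
        Act.ref_sp0 h.inv_sp0 h.inv_sp0, fun Y hY => ?_⟩
      obtain ⟨B, h1, h2, rfl⟩ := mem_sp0.1 hY
      exact ⟨B, h1, by simp [h2], le_rfl⟩
    | succ i ih =>
      obtain ⟨s, h1, h2, h3, h4, h5, h6⟩ := ih
      refine ⟨nx p A s (sp0 p A G), (card_nx_le _ _).trans (Nat.mul_le_mul h1 (hA ▸
        Nat.mul_le_mul_right _ (card_sp0_le.trans (hA ▸ le_cb Nat.one_le_two_pow i)))),
        h.inv_nx h2 h.inv_sp0, by rw [h.iSup_nx h2 h.inv_sp0 h5 h4, h3, h.iSup_sp0]; rfl,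
        Act.ref_sp0 h2 h.inv_sp0, h5.nx fun Y hY => ⟨Y, hY, le_rfl⟩, fun Y hY => ?_⟩
      obtain ⟨J, hJ, K, hK, B, -, -, rfl⟩ := mem_nx.1 hY
      obtain ⟨B1, e1, e2, e3⟩ := h6 J hJ
      obtain ⟨B2, e4, e5, rfl⟩ := mem_sp0.1 hK
      refine ⟨B1 ⊓ B2, inf_le_left.trans e1, relIndex_inf_le.trans
        (by rw [e5, pow_succ p (i + 1)]; exact Nat.mul_le_mul_right _ e2), inf_le_left.trans ?_⟩
      exact commutator_mono (e3.trans (lcs_mono (inf_le_inf_left _ (centralizer_le inf_le_left)) i))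
        (inf_le_inf_left _ (centralizer_le inf_le_right))
  obtain ⟨s, h1, h2, h3, h4, h5, h6⟩ := key (k - 3)
  refine h.main (D := fun K => K.lowerCentralSeries (k - 3))
    (hA ▸ Nat.pow_le_pow_right h.pp.pos hk) (fun _ _ e => lcs_mono e _) (fun K => lcs_le K _)
    (fun _ _ e => le_normalizer_lcs e _) (fun K => dS_le_lcs K _) h1 h2 h3
    (fun Y hY Y' hY' B e1 e2 => ?_) (fun Y hY => ?_) hc
  · obtain ⟨J, hJ, e⟩ := h4 Y' hY'
    obtain ⟨Z, hZ, e'⟩ := h5 _ (mem_nx.2 ⟨Y, hY, J, hJ, B, e1, e2, rfl⟩)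
    exact ⟨Z, hZ, (inf_le_inf_right _ (commutator_mono le_rfl e)).trans e'⟩
  · obtain ⟨B, e1, e2, e3⟩ := h6 Y hY
    refine ⟨B, e1, (Nat.mul_le_mul_right _ e2).trans_lt ?_, e3⟩
    rw [← pow_succ, hA]
    exact Nat.pow_lt_pow_right h.pp.one_lt (by omega)

theorem Act.der (h : Act p A G) {k c d : ℕ} (hk : 2 ^ d + 2 ≤ k) (hA : Nat.card A = p ^ k)
    (hc : ∀ a ∈ A, a ≠ 1 → (dS (G ⊓ centralizer {a}) d).lowerCentralSeries c = ⊥) :
    (dS G d).lowerCentralSeries (bound p c (d + c) (cb (2 ^ p ^ k) d)) = ⊥ := by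
  have key : ∀ i, ∃ s : Finset (Subgroup X), s.card ≤ cb (2 ^ p ^ k) i ∧ Inv A G s ∧
      ⨆ Y ∈ s, Y = dS G i ∧ Ref (nx p A s s) s ∧
      ∀ Y ∈ s, ∃ B ≤ A, B.relIndex A ≤ p ^ 2 ^ i ∧ Y ≤ dS (G ⊓ centralizer (B : Set X)) i :=
    fun i => by
    induction i with
    | zero =>
      refine ⟨_, hA ▸ card_sp0_le, h.inv_sp0, h.iSup_sp0, Act.ref_sp0 h.inv_sp0 h.inv_sp0,
        fun Y hY => ?_⟩
      obtain ⟨B, h1, h2, rfl⟩ := mem_sp0.1 hY
      exact ⟨B, h1, by simp [h2], le_rfl⟩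
    | succ i ih =>
      obtain ⟨s, h1, h2, h3, h5, h6⟩ := ih
      refine ⟨nx p A s s, (card_nx_le _ _).trans (Nat.mul_le_mul h1
        (Nat.mul_le_mul h1 (hA ▸ le_rfl))), h.inv_nx h2 h2,
        by rw [h.iSup_nx h2 h2 h5 fun Y hY => ⟨Y, hY, le_rfl⟩, h3]; rfl, h5.nx h5, fun Y hY => ?_⟩
      obtain ⟨J, hJ, K, hK, B, -, -, rfl⟩ := mem_nx.1 hY
      obtain ⟨B1, e1, e2, e3⟩ := h6 J hJ
      obtain ⟨B2, e4, e5, e6⟩ := h6 K hK
      refine ⟨B1 ⊓ B2, inf_le_left.trans e1, relIndex_inf_le.trans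
        (by rw [pow_succ 2, mul_two, pow_add]; exact Nat.mul_le_mul e2 e5), inf_le_left.trans ?_⟩
      exact commutator_mono (e3.trans (dS_mono (inf_le_inf_left _ (centralizer_le inf_le_left)) i))
        (e6.trans (dS_mono (inf_le_inf_left _ (centralizer_le inf_le_right)) i))
  obtain ⟨s, h1, h2, h3, h5, h6⟩ := key d
  have := Nat.one_le_two_pow (n := d)
  refine h.main (D := fun K => dS K d)
    (hA ▸ Nat.pow_le_pow_right h.pp.pos (by omega)) (fun _ _ e => dS_mono e _)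
    (fun K => (dS_le_lcs K _).trans (lcs_le K _))
    (fun _ _ e => le_normalizer_dS e _) (fun K => le_rfl) h1 h2 h3
    (fun Y hY Y' hY' B e1 e2 => h5 _ (mem_nx.2 ⟨Y, hY, Y', hY', B, e1, e2, rfl⟩))
    (fun Y hY => ?_) hc
  obtain ⟨B, e1, e2, e3⟩ := h6 Y hY
  refine ⟨B, e1, (Nat.mul_le_mul_right _ e2).trans_lt ?_, e3⟩
  rw [← pow_succ, hA]
  exact Nat.pow_lt_pow_right h.pp.one_lt (by omega)

section Aut

open Coprime SemidirectProduct

variable {Γ : Type*} [Group Γ] [Finite Γ] {B : Subgroup (MulAut Γ)}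

theorem act_sd {k : ℕ} (hp : p.Prime) (hk : 1 ≤ k) (hc : (Nat.card Γ).Coprime p)
    (hB : Cfsg.IsElementaryAbelian p B) (hk' : Nat.card B = p ^ k) :
    Act p (sdR B.subtype ⊤) (sdL B.subtype ⊤) ∧ Nat.card (sdR B.subtype ⊤) = p ^ k := by
  have h1 : Nat.card (sdR B.subtype ⊤) = p ^ k := by rw [card_sdR, card_top, hk']
  refine ⟨⟨hp, ⟨⟨?_⟩⟩, ?_, fun e => ?_, by rwa [card_sdL, card_top], sdL_top_normal⟩, h1⟩
  · rintro ⟨_, a, -, rfl⟩ ⟨_, b, -, rfl⟩
    have := hB.1
    exact Subtype.ext (by rw [coe_mul, coe_mul, ← map_mul, ← map_mul, mul_comm' a b])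
  · rintro _ ⟨a, -, rfl⟩
    rw [← map_pow, show a ^ p = 1 from Subtype.ext (hB.2 a a.2), map_one]
  · rw [e, card_bot] at h1
    exact absurd h1 (Nat.one_lt_pow (by omega) hp.one_lt).ne

omit [Finite Γ] in
theorem inf_centralizer_inr (a : B) : sdL B.subtype ⊤ ⊓ centralizer {inr a} =
    (⊤ : Subgroup ((a : MulAut Γ).toMonoidHom.eqLocus (MonoidHom.id Γ))).map
      ((inl : Γ →* Γ ⋊[B.subtype] B).comp (Subgroup.subtype _)) := by
  ext x
  constructor
  · rintro ⟨⟨g, -, rfl⟩, h⟩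
    exact ⟨⟨g, inr_mul_inl_comm_iff.1 (mem_centralizer_singleton_iff.1 h).symm⟩, trivial, rfl⟩
  · rintro ⟨g, -, rfl⟩
    exact ⟨⟨g, trivial, rfl⟩, mem_centralizer_singleton_iff.2 ((inr_mul_inl_comm_iff (φ := B.subtype) (a := a) (g := g)).2 g.2).symm⟩

end Aut

end CfsgLib.SigL
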